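import Cfsg.Agent.BZ.AT.Defs
import Cfsg.Agent.BZ.A.Cell2

/-!
# BZ, type A, two degrees of height zero: the cells (helper48, after `BZ/A/Cell2`)
-/

set_option autoImplicit false

namespace Cfsg.Agent.BZ.AT

open Cfsg Module
open Cfsg.Agent.H577.GLB.Std Cfsg.Agent.H614.GLn.RSt Cfsg.Agent.H615.GU Cfsg.Agent.H623.GU Cfsg.Agent.H112.GLB
open Cfsg.Agent.H794.EM (vz vz_mul)
open Cfsg.Agent.H624.Sl (scl jj nrm)
open Cfsg.Agent.H166.GUC Cfsg.Agent.H901.Sl Cfsg.Agent.H614.GU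
open Cfsg.Agent.RC.A (Amb mu mem_mu boxA)
open Cfsg.Agent.RC.A.Cel (exists_lift dvd_pow two_pow p_ne)
open Cfsg.Agent.BZ.A.C2 (vz_co)
open scoped MatrixGroups

namespace Cel

variable {F K : Type} [Field F] [Field K] [Algebra F K] {θ : K →*₀ ℂ} {Q : ℤ} {M : ℕ} [NeZero M] {N p : ℕ}
  {G : ℕ → Type} [∀ n, Group (G n)] [∀ n, Finite (G n)] {δ : ZMod M} {E : Type} [Field E] [Algebra E K]

/-- the cell from a tower over the extension field -/
theorem lg_of (A : Amb F K θ Q M N p G) {k f : ℕ} (hf0 : 0 < f) (h1 : (p : ℤ) ∣ Q ^ f - 1) (hk : ¬ p ∣ k)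
    (hper : cp Q M p δ = f * k) (hper' : perZ (Q ^ f) M δ = k) {G₁ : ℕ → Type} [∀ n, Group (G₁ n)] [∀ n, Finite (G₁ n)]
    (A₁ : Amb E K θ (Q ^ f) M k p G₁) (hsc : ∀ y : Eˣ, y ^ (Q ^ f - 1) = 1 → scl k y ∈ (A₁.ρ k).range)
    (hst : ∀ (l n : ℕ) (hl : l ≤ N) (hn : n ≤ N), l + f * k = n → ∃ (j : G₁ k × G l →* G n) (u : G n), Function.Injective j ∧
      (∃ a : ℕ, orderOf u = p ^ a) ∧ j.range = Subgroup.centralizer ({u} : Set (G n)) ∧
      Val (A.t.R n hn) (A₁.t.R k le_rfl) (A.t.R l hl) j u) : Nonempty (LG A δ) := by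
  have := A.cF.finK
  have hQ := A.ctx.two
  have hk0 : 0 < k := Nat.pos_of_ne_zero fun h => hk (h ▸ dvd_zero p)
  obtain ⟨b, hb0⟩ : ∃ b, b = vz p (Q ^ cp Q M p δ - 1) := ⟨_, rfl⟩
  have hb : b = vz p (Q ^ f - 1) := by rw [hb0, hper, pow_mul, vz_co (two_pow hQ hf0) h1 hk]
  have hd : ((p ^ b : ℕ) : ℤ) ∣ Q ^ f - 1 := Int.natCast_dvd.2 (hb ▸ Nat.ordProj_dvd _ _)
  let ι : Eˣ →* Kˣ := Units.map (algebraMap E K).toMonoidHom
  have hι : Function.Injective ι := Units.map_injective (algebraMap E K).injective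
  have hmu : ∀ y : mu Kˣ (p ^ b), y.1 ^ (Q ^ f - 1) = 1 := fun y => by
    obtain ⟨c, hc⟩ := hd
    rw [hc, zpow_mul, zpow_natCast, mem_mu.1 y.2, one_zpow]
  obtain ⟨c, hc⟩ := exists_lift hι (mu Kˣ (p ^ b)).subtype fun y =>
    (A₁.dsur k hk0 y.1 (hmu y)).elim fun g hg => ⟨_, hg⟩
  obtain ⟨σ, hσ⟩ := exists_lift (A₁.inj k) ((Units.map (Matrix.scalar (Fin k)).toMonoidHom).comp c) fun y =>
    hsc (c y) (hι (by rw [map_zpow, hc, map_one]; exact hmu y))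
  replace hσ : ∀ y, A₁.ρ k (σ y) = scl k (c y) := hσ
  obtain ⟨θ₀, h0⟩ := exists_cusp hk0 (A₁.t.R k le_rfl) (A₁.t.bij k k le_rfl le_rfl) hper'
  have h2 : Nat.card (mu Kˣ (p ^ b)) = p ^ b := by
    rw [mu, IsCyclic.card_powMonoidHom_ker, A.ctx.card,
      Nat.gcd_eq_right (Int.natCast_dvd_natCast.1 (hd.trans (pow_one (Q ^ f) ▸ A₁.ctx.dvd 1 one_pos hk0)))]
  have h3 : Function.Injective σ := (injective_iff_map_eq_one σ).2 fun y h => by
    have := A₁.cF.finF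
    have h4 := orderOf_scl hk0 (c y)
    rw [← hσ, h, map_one, orderOf_one, eq_comm, orderOf_eq_one_iff] at h4
    exact Subtype.ext ((hc y).symm.trans ((congrArg ι h4).trans (map_one ι)))
  refine ⟨{
    X := G₁ k
    f := f
    k := k
    R₁ := A₁.t.R k le_rfl
    θ₀ := θ₀
    Zc := σ.range
    fpos := hf0
    kpos := hk0
    per := hper
    per' := hper'
    gr := A₁.t.gr k le_rfl
    cusp := h0
    cen := ?_
    card := (Nat.card_congr (MonoidHom.ofInjective h3).toEquiv).symm.trans (hb0 ▸ h2)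
    step := hst }⟩
  have := A₁.cF.finF
  rintro _ ⟨y, rfl⟩
  exact Subgroup.mem_center_iff.2 fun x => A₁.inj k (by rw [map_mul, map_mul, hσ, H623.GU.scl_comm])

end Cel

open Cel

/-- **The cells.** -/
theorem boxC : BoxC := by
  intro F K _ _ _ _ θ Q M _ N p hp hQp δ hN
  have := Fact.mk hp
  have hu : IsUnit (Q : ZMod p) := isUnit_iff_ne_zero.2 fun h => hQp ((ZMod.intCast_zmod_eq_zero_iff_dvd Q p).1 h)
  have key : IsUnit (Q : ZMod M) → ∃ s k f : ℕ, 0 < f ∧ (p : ℤ) ∣ Q ^ f - 1 ∧ f = orderOf (Q : ZMod p) * p ^ s ∧ ¬ p ∣ k ∧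
      0 < k ∧ f * k ≤ N ∧ f ≤ N ∧ cp Q M p δ = f * k ∧ perZ (Q ^ f) M δ = k := fun h => by
    obtain ⟨s, k, h3, h4, h5, h6, -⟩ := H157.GLB.exists_split hp h hu δ
    replace h3 : cp Q M p δ = _ := h3
    refine ⟨s, k, _, Nat.mul_pos (H157.GLB.orderOf_pos_of_unit hp hu) (pow_pos hp.pos s), ?_, rfl, h4, h5, h3 ▸ hN,
      (Nat.le_mul_of_pos_right _ h5).trans (h3 ▸ hN), h3, h6⟩
    rw [← ZMod.intCast_zmod_eq_zero_iff_dvd, Int.cast_sub, Int.cast_pow, pow_mul, pow_orderOf_eq_one, one_pow, Int.cast_one,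
      sub_self]
  refine ⟨fun hQ A hρ => ?_, fun q hF hQ A hρ => ?_⟩
  · obtain ⟨s, k, f, hf0, h1, hf', hk, hk0, h2, h3, h4, h5⟩ := key A.ctx.unit
    have := A.cF.finK
    obtain ⟨E, hE, _⟩ := exists_field_pos A.cF hf0 h3
    have := Fintype.ofFinite E
    have h6 : Q ^ f = Fintype.card E := by rw [card_eq_pow_finrank (K := F), hE, hQ, Nat.cast_pow]
    obtain ⟨A₁, hρ₁, -⟩ := (boxA E K θ (Q ^ f) M k p hp (p_ne E (h6 ▸ h1)) (H505.S4536.Ext.ctx_ext A.cF E (hE ▸ h2))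
      (ctx_pow A.ctx hf0 h2)).1 h6
    have h7 : (Nat.card F : ℤ) = Q := by rw [hQ, Nat.card_eq_fintype_card]
    obtain ⟨z, ⟨a, ha⟩, hz, hmin⟩ := exists_z A.ctx hp hu s (hf' ▸ h3)
    rw [← hf'] at hmin
    obtain ⟨c, hc⟩ : ∃ c : Eˣ, Units.map (algebraMap E K).toMonoidHom c = z :=
      (A₁.dsur k hk0 z (by rw [zpow_sub_one, (hmin f).2 dvd_rfl, mul_inv_cancel])).elim fun g hg => ⟨_, hg⟩
    have hadj : Algebra.adjoin F {(c : E)} = ⊤ := adjoin_eq_top E _ fun i _ hi h => by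
      have h8 := congrArg (Units.map (algebraMap E K).toMonoidHom) (show c ^ Nat.card F ^ i = c from Units.ext h)
      rw [map_pow, hc, ← zpow_natCast, Nat.cast_pow, h7] at h8
      rw [hE] at hi ⊢
      exact Nat.dvd_antisymm hi ((hmin _).1 h8)
    refine lg_of A hf0 h1 hk h4 h5 A₁ (fun y _ => by rw [hρ₁]; exact ⟨_, rfl⟩) fun l n hl hn h => ?_
    have ε : ((Fin k → E) × (Fin l → F)) ≃ₗ[F] (Fin n → F) := LinearEquiv.ofFinrankEq _ _ (by
      rw [finrank_prod, finrank_pi_fintype, finrank_fin_fun, finrank_fin_fun, ← h, hE, Finset.sum_const, Finset.card_univ,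
        Fintype.card_fin, smul_eq_mul, add_comm, mul_comm])
    refine ⟨jj ε, jj ε (scl k c, 1), jj_injective ε, ⟨a, ?_⟩, centralizer_jj ε _ (fun e => hz (by rw [← hc, e, map_one])) hadj,
      A.t.val hp hf0 (r67 A.ctx hp hf0) A₁.t hn hl le_rfl _ _ (z := z) (a₀ := a) (ha ▸ pow_orderOf_eq_one z) hz hmin
        (fun x y u i => ?_) fun x u => ?_⟩
    · rw [orderOf_injective _ (jj_injective ε), Prod.orderOf_mk, orderOf_one, Nat.lcm_one_right, orderOf_scl hk0, ← ha, ← hc,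
        orderOf_injective _ (Units.map_injective (algebraMap E K).injective)]
    · rw [A.typ, A.typ, hρ, hρ, MonoidHom.id_apply, mcol_jj, hE]
      refine congrArg (· + _) (Finset.sum_congr rfl fun j _ => ?_)
      rw [A₁.typ, hρ₁, show Q ^ j = (Nat.card F ^ j : ℕ) by rw [Nat.cast_pow, h7], zpow_natCast, Units.val_pow_eq_pow_val]
      rfl
    · rw [A₁.typ, A₁.typ, hρ₁, MonoidHom.id_apply, mcol_scl, hc]
      rfl
  subst hQ
  obtain ⟨s, k, f, hf0, h1, hf', hk, hk0, h2, h3, h4, h5⟩ := key A.ctx.unit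
  have hF' := Nat.card_eq_fintype_card.trans hF
  have ht : ∀ n (hn : n ≤ N), IsTypU q n (A.t.T n hn) := fun n hn g x => by rw [A.typ, hρ]; rfl
  rcases Nat.even_or_odd f with ⟨g, hg⟩ | ho
  · obtain rfl : f = 2 * g := hg.trans (two_mul g).symm
    obtain ⟨E, _, _, _, _, z, hE, hc, C, ctx⟩ := exists_feven A.cF hF' hp hu s hf' h3
    have := Fintype.ofFinite E
    have h6 : g * k ≤ N := (Nat.mul_le_mul_right k (by omega)).trans h2
    have h7 : (-(q : ℤ)) ^ (2 * g) = Fintype.card E := by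
      rw [← Nat.card_eq_fintype_card, hc, Nat.cast_pow, (even_two_mul g).neg_pow]
    obtain ⟨A₁, hρ₁, -⟩ := (boxA E K θ _ M k p hp (p_ne E (h7 ▸ h1)) (C k h6) (ctx k h6)).1 h7
    refine lg_of A hf0 h1 hk h4 h5 A₁ (fun y _ => by rw [hρ₁]; exact ⟨_, rfl⟩) fun l n hl hn h => ?_
    obtain ⟨j, h8, h9, -, -, h10⟩ := step_even hp hF (by omega) (r67 A.ctx hp hf0) A.t ht hE A₁.t
      (fun n hn g x => by rw [A₁.typ, hρ₁]; rfl) le_rfl hl hn h
    exact ⟨j, _, h8, by rw [orderOf_injective j h8, Prod.orderOf_mk, orderOf_one, Nat.lcm_one_right, orderOf_scl hk0]; exact hE.ppow,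
      h9, h10⟩
  · obtain ⟨E, _, _, _, _, z, hE, hc, C, -⟩ := exists_fodd A.cF hF' hp hu s hf' h3 ho
    have := Fintype.ofFinite E
    have := hE.tower
    have h6 : (-(q : ℤ)) ^ f = -((q ^ f : ℕ) : ℤ) := by rw [ho.neg_pow, Nat.cast_pow]
    rw [Nat.card_eq_fintype_card] at hc
    obtain ⟨A₁, hρ₁, -⟩ := (boxA E K θ _ M k p hp (p_ne E (by rw [hc, Nat.cast_pow, ← neg_sq, ← h6]; exact dvd_pow h1 2))
      (C k h2) (ctx_pow A.ctx hf0 h2)).2 _ hc h6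
    refine lg_of A hf0 h1 hk h4 h5 A₁ (fun y hy => ?_) fun l n hl hn h => ?_
    · rw [h6, ← neg_add', zpow_neg, inv_eq_one, ← Nat.cast_succ, zpow_natCast] at hy
      rw [hρ₁]
      exact ⟨gsc k y hy, rfl⟩
    obtain ⟨j, h8, h9, -, -, h11⟩ := step_odd hp hF ho (r67 A.ctx hp hf0) A.t ht hE A₁.t
      (fun n hn g x => by rw [A₁.typ, hρ₁]; rfl) le_rfl hl hn h
    exact ⟨j, _, h8, by rw [orderOf_injective j h8, Prod.orderOf_mk, orderOf_one, Nat.lcm_one_right, orderOf_gsc hk0]; exact hE.ppow,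
      h9, h11⟩

end Cfsg.Agent.BZ.AT
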