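import Cfsg.Agent.BZ.AT.Defs

/-!
# BZ, type A, two degrees of height zero: the valuations of the degrees (helper53)

`boxD : BoxD`.
-/

set_option autoImplicit false

namespace Cfsg.Agent.BZ.AT

open Cfsg Finset
open Cfsg.Agent.H577.GLB.Std Cfsg.Agent.H614 Cfsg.Agent.H614.GLn.RSt Cfsg.Agent.H623.GU Cfsg.Agent.H112.GLB Cfsg.Agent.H615.GU
open Cfsg.Agent.H614.GLn hiding bsz
open Cfsg.Agent.H794.XZ Cfsg.Agent.H794.EM Cfsg.Agent.LV.A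
open Cfsg.Agent.BZ.A (dv df)

namespace Dg

variable {m : ℕ}

/-- the exponent -/
def ex (m : ℕ) : ℕ := ∑ i : Fin m, ∑ l ∈ range (i : ℕ), l

theorem JT_val {T : ℤ} {s : ℤˣ} (hT : ∀ i, 0 < i → (T : ℂ) ^ i ≠ 1) (β : Fin m → ℕ) :
    ∃ u : ℤˣ, (∑ σ : Equiv.Perm (Fin m), (sg σ : ℂ) * ∏ i,
      (if (σ i : ℕ) ≤ β i then ((s : ℤ) : ℂ) ^ (β i - σ i) * (ph (T : ℂ) (β i - σ i))⁻¹ else 0)) *
        ((PB T β * T ^ ex m : ℤ) : ℂ) = (((u : ℤ) * VD T β : ℤ) : ℂ) := by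
  have hs : ((s : ℤ) : ℂ) * ((s : ℤ) : ℂ) = 1 := by
    rw [← Int.cast_mul, ← Units.val_mul, Int.units_mul_self, Units.val_one, Int.cast_one]
  refine ⟨s ^ (∑ i, β i) * s ^ (∑ i : Fin m, (i : ℕ)), ?_⟩
  rw [← det_VD, Finset.sum_mul]
  push_cast
  rw [Finset.mul_sum]
  refine Finset.sum_congr rfl fun σ _ => ?_
  have h1 : ((PB T β : ℤ) : ℂ) * (T : ℂ) ^ ex m = ∏ i, (ph (T : ℂ) (β i) * ∏ l ∈ range (σ i : ℕ), (T : ℂ) ^ l) := by
    rw [ex, Finset.prod_mul_distrib, PB, Int.cast_prod, ← Finset.prod_pow_eq_pow_sum,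
      ← Equiv.prod_comp σ (fun i : Fin m => (T : ℂ) ^ ∑ l ∈ range (i : ℕ), l)]
    congr 1
    · exact Finset.prod_congr rfl fun i _ => PH_cast T _
    · exact Finset.prod_congr rfl fun i _ => (Finset.prod_pow_eq_pow_sum _ _ _).symm
  rw [h1, mul_assoc, ← Finset.prod_mul_distrib, Finset.prod_congr rfl fun i _ => entry hT hs (β i) (σ i),
    Finset.prod_mul_distrib, Finset.prod_mul_distrib, Finset.prod_pow_eq_pow_sum, Finset.prod_pow_eq_pow_sum,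
    Equiv.sum_comp σ (fun i : Fin m => (i : ℕ))]
  ring

theorem eps_SS {Q : ℤ} {M : ℕ} [NeZero M] (hQ : IsUnit (Q : ZMod M)) (h2 : 2 ≤ |Q|) (c : ZMod M) {β : Fin m → ℕ}
    (hβ : StrictMono β) : ∃ u : ℤˣ, eps Q M (SS (fun j => Pw Q M j c) (bsz β) β) *
      ((PB (Q ^ perZ Q M c) β * (Q ^ perZ Q M c) ^ ex m : ℤ) : ℂ) = (((u : ℤ) * VD (Q ^ perZ Q M c) β : ℤ) : ℂ) := by
  have ht : ∀ i, 0 < i → (Q : ℂ) ^ i ≠ 1 := fun i hi h => pow_ne_one h2 hi (by exact_mod_cast h)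
  have hT : ∀ i, 0 < i → ((Q ^ perZ Q M c : ℤ) : ℂ) ^ i ≠ 1 := fun i hi h =>
    pow_ne_one (two_pow h2 (perZ_pos hQ c)) hi (by exact_mod_cast h)
  obtain ⟨u, h⟩ := JT_val (s := (-1) ^ (perZ Q M c - 1)) hT β
  refine ⟨u, ?_⟩
  rw [← h, SS_eq_JT _ _ (sum_eq_bsz hβ), JT, map_sum]
  congr 1
  refine Finset.sum_congr rfl fun σ _ => ?_
  rw [map_zsmul, zsmul_eq_mul, map_prod]
  congr 1
  refine Finset.prod_congr rfl fun i _ => ?_
  rw [jt]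
  split_ifs with h1
  · rw [eps_hh Q M hQ ht]
    push_cast
    rfl
  · exact map_zero _

theorem vz_npow (r : ℕ) (T : ℤ) (k : ℕ) : vz r (T ^ k) = k * vz r T := by
  show (T ^ k).natAbs.factorization r = k * T.natAbs.factorization r
  rw [Int.natAbs_pow, Nat.factorization_pow]
  rfl

variable {r : ℕ} {T : ℤ}

theorem vz_sub (hr : r.Prime) (h : (r : ℤ) ∣ T) {k : ℕ} (hk : 0 < k) : vz r (T ^ k - 1) = 0 :=
  Nat.factorization_eq_zero_of_not_dvd fun e => hr.one_lt.ne' (by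
    have h1 := dvd_sub (dvd_pow h hk.ne') (Int.natCast_dvd.2 e)
    rw [sub_sub_cancel] at h1
    exact_mod_cast Int.eq_one_of_dvd_one (Int.natCast_nonneg r) h1)

theorem vz_PH0 (hr : r.Prime) (h : (r : ℤ) ∣ T) (hT : 2 ≤ |T|) (k : ℕ) : vz r (PH T k) = 0 := by
  rw [vz_PH hT]
  exact sum_eq_zero fun x _ => vz_sub hr h x.succ_pos

theorem vz_PB0 (hr : r.Prime) (h : (r : ℤ) ∣ T) (hT : 2 ≤ |T|) (β : Fin m → ℕ) : vz r (PB T β) = 0 :=
  (vz_prod r univ (fun i => PH T (β i)) fun _ _ => PH_ne hT _).trans (sum_eq_zero fun _ _ => vz_PH0 hr h hT _)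

theorem vz_VD (hr : r.Prime) (h : (r : ℤ) ∣ T) (hT : 2 ≤ |T|) {β : Fin m → ℕ} (hβ : StrictMono β) :
    vz r (VD T β) = ar β * vz r T := by
  have hp : ∀ {j : Fin m}, ∀ i ∈ Iio j, 0 < β j - β i := fun i hi => Nat.sub_pos_of_lt (hβ (mem_Iio.1 hi))
  have h0 : ∀ j : Fin m, ∀ i ∈ Iio j, T ^ (β j - β i) - 1 ≠ 0 := fun j i hi => sub_ne_zero.2 (pow_ne_one hT (hp i hi))
  have h0' : ∀ j : Fin m, ∀ i ∈ Iio j, T ^ β j - T ^ β i ≠ 0 := fun j i hi => by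
    rw [VD_fac hβ hi]
    exact mul_ne_zero (pow_ne_zero _ (ne_zero_of_two hT)) (h0 j i hi)
  refine (vz_prod r univ (fun j => ∏ i ∈ Iio j, (T ^ β j - T ^ β i)) fun j _ => prod_ne_zero_iff.2 (h0' j)).trans
    (Eq.trans (sum_congr rfl fun j _ => ?_) (sum_mul univ (fun j => ∑ i ∈ Iio j, β i) _).symm)
  rw [vz_prod _ _ _ (h0' j), sum_mul]
  refine sum_congr rfl fun i hi => ?_
  rw [VD_fac hβ hi, vz_mul (pow_ne_zero _ (ne_zero_of_two hT)) (h0 j i hi), vz_npow, vz_sub hr h (hp i hi), add_zero]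

theorem main {K : Type} [Field K] {θ : K →*₀ ℂ} {Q : ℤ} {M : ℕ} [NeZero M] {N l : ℕ} {G : ℕ → Type} [∀ n, Group (G n)]
    [∀ n, Finite (G n)] (ctx : CtxQ θ Q M N) (t : Tow θ Q M N l G) {n : ℕ} (hn : n ≤ N) (h0 : (t.T n hn).typ 1 = tyOne Q n)
    {χ : IrrCharacter (G n)} {T : LabZ Q M m n} (hχ : (t.R n hn).IsLb χ T) (r : ℕ) :
    (charDegree (χ : G n → ℂ)).factorization r +
      ∑ c ∈ repsZ Q M, (vz r (PB (Q ^ perZ Q M c) (T.t c)) + vz r ((Q ^ perZ Q M c) ^ ex m)) =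
      vz r (PH Q n) + ∑ c ∈ repsZ Q M, vz r (VD (Q ^ perZ Q M c) (T.t c)) := by
  obtain ⟨s, hs⟩ := hχ
  have hD : ((s : ℤ) : ℂ) * (charDegree (χ : G n → ℂ) : ℂ) = ph (Q : ℂ) n * eps Q M (SchP Q M T.t) := by
    rw [← om_one ctx t hn h0 (schP_mem_hom ctx.unit T), ← Blocks.Basic.irr_one_eq_charDegree χ.2]
    exact (congrFun hs 1).symm
  choose u h using fun c : ZMod M => eps_SS ctx.unit ctx.two c (T.mono c)
  have hT : ∀ c : ZMod M, 2 ≤ |Q ^ perZ Q M c| := fun c => two_pow ctx.two (perZ_pos ctx.unit c)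
  have h1 : (s : ℤ) * charDegree (χ : G n → ℂ) * ∏ c ∈ repsZ Q M, (PB (Q ^ perZ Q M c) (T.t c) * (Q ^ perZ Q M c) ^ ex m) =
      PH Q n * ∏ c ∈ repsZ Q M, ((u c : ℤ) * VD (Q ^ perZ Q M c) (T.t c)) := by
    apply Int.cast_injective (α := ℂ)
    rw [Int.cast_mul, Int.cast_mul, Int.cast_natCast, hD, Int.cast_mul, PH_cast, Int.cast_prod, Int.cast_prod,
      SchP_eq, prodS, map_prod, mul_assoc, ← prod_mul_distrib]
    congr 1
    exact prod_congr rfl fun c _ => h c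
  have h3 : ∀ c : ZMod M, PB (Q ^ perZ Q M c) (T.t c) * (Q ^ perZ Q M c) ^ ex m ≠ 0 := fun c =>
    mul_ne_zero (PB_ne (hT c) _) (pow_ne_zero _ (ne_zero_of_two (hT c)))
  have h4 : ∀ c : ZMod M, (u c : ℤ) * VD (Q ^ perZ Q M c) (T.t c) ≠ 0 := fun c =>
    mul_ne_zero (u c).ne_zero (VD_ne (hT c) (T.mono c))
  have h5 : (s : ℤ) * charDegree (χ : G n → ℂ) ≠ 0 :=
    mul_ne_zero s.ne_zero (Nat.cast_ne_zero.2 (Blocks.Basic.charDegree_pos χ.2).ne')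
  have h6 := congrArg (vz r) h1
  rwa [vz_mul h5 (prod_ne_zero_iff.2 fun c _ => h3 c), vz_unit, vz_natCast,
    vz_mul (PH_ne ctx.two n) (prod_ne_zero_iff.2 fun c _ => h4 c), vz_prod _ _ _ fun c _ => h3 c,
    vz_prod _ _ _ fun c _ => h4 c, sum_congr rfl fun c _ => vz_unit (u c) _,
    sum_congr rfl fun c _ => vz_mul (PB_ne (hT c) _) (pow_ne_zero _ (ne_zero_of_two (hT c)))] at h6

end Dg

/-- **Degrees.** -/
theorem boxD : BoxD := by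
  intro K _ θ Q M _ N l G _ _ hl hQ ctx t n hn h0 m χ T hχ
  have hT : ∀ c : ZMod M, 2 ≤ |Q ^ perZ Q M c| := fun c => two_pow ctx.two (perZ_pos ctx.unit c)
  refine ⟨?_, fun r hr h χ' T' hχ' e => ?_⟩
  · have h1 := Dg.main ctx t hn h0 hχ l
    have h2 : ∀ c : ZMod M, ¬ (l : ℤ) ∣ Q ^ perZ Q M c := fun c e => hQ ((Nat.prime_iff_prime_int.1 hl).dvd_of_dvd_pow e)
    rw [sum_congr rfl fun c _ => by
      rw [vz_pow hl (h2 c), add_zero, vz_PB hl (h2 c) (hT c) (T.mono c), ← dv_eq hl (h2 c) (hT c) (T.mono c)],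
      sum_add_distrib, ← add_assoc] at h1
    exact Nat.add_right_cancel h1
  · have h1 : ∀ {χ : IrrCharacter (G n)} {T : LabZ Q M m n}, (t.R n hn).IsLb χ T → (charDegree (χ : G n → ℂ)).factorization r +
        ∑ c ∈ repsZ Q M, vz r ((Q ^ perZ Q M c) ^ Dg.ex m) = AR Q M T.t * vz r Q := fun {χ T} hχ => by
      have h1 := Dg.main ctx t hn h0 hχ r
      have h2 : ∀ c : ZMod M, (r : ℤ) ∣ Q ^ perZ Q M c := fun c => dvd_pow h (perZ_pos ctx.unit c).ne'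
      rw [Dg.vz_PH0 hr h ctx.two, zero_add, sum_congr rfl fun c _ => by rw [Dg.vz_PB0 hr (h2 c) (hT c), zero_add]] at h1
      refine h1.trans (Eq.trans (sum_congr rfl fun c _ => ?_) (sum_mul _ (fun c => perZ Q M c * ar (T.t c)) _).symm)
      rw [Dg.vz_VD hr (h2 c) (hT c) (T.mono c), Dg.vz_npow, mul_left_comm, mul_assoc]
    refine Nat.eq_of_mul_eq_mul_right (m := vz r Q) (hr.factorization_pos_of_dvd (Int.natAbs_ne_zero.2 (ne_zero_of_two ctx.two))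
      (Int.natCast_dvd.1 h)) ?_
    rw [← h1 hχ, ← h1 hχ', e]

end Cfsg.Agent.BZ.AT
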