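import Cfsg.Agent.BZ.AT.Defs
import Cfsg.Agent.BZ.A.Desc

/-!
# BZ, type A, two degrees of height zero: descent (helper35)
-/

set_option autoImplicit false
set_option linter.unusedSectionVars false

namespace Cfsg.Agent.BZ.AT

open Cfsg Subgroup Cfsg.Agent.Blocks.Basic
open Cfsg.Agent.TID.Red (Ov)

namespace Desc

variable {l : ℕ} {𝔐 : Ideal AlgInt} {Γ : Type} [Group Γ] [Finite Γ] {Y : Subgroup Γ} [hY : Y.Normal]

/-- every member of a covering block lies over a member -/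
theorem under (hM : IsPModular l 𝔐) {B : Set (IrrCharacter Γ)} {b : Set (IrrCharacter Y)} (hB : IsPBlock 𝔐 B)
    (hb : IsPBlock 𝔐 b) {χ₀ χ : IrrCharacter Γ} {θ₀ : IrrCharacter Y} (h1 : χ₀ ∈ B) (h2 : θ₀ ∈ b)
    (h3 : Ov Y.subtype (χ₀ : Γ → ℂ) (θ₀ : Y → ℂ)) (h4 : χ ∈ B) : ∃ θ ∈ b, Ov Y.subtype (χ : Γ → ℂ) (θ : Y → ℂ) := by
  have : Fact l.Prime := ⟨hM.1⟩
  have := Fintype.ofFinite Γ
  have := Fintype.ofFinite Y
  obtain ⟨η, h5⟩ := TO.Cov.exists_under Y χ.2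
  obtain ⟨g, θ, h6, h7⟩ := S0964.result l 𝔐 hM Y B hB b hb χ₀ h1 θ₀ h2 ((TID.Red.ov_subtype_iff _ _ _).1 h3) χ h4 η h5
  refine ⟨θ, h6, (TID.Red.ov_src_iff (MulAut.conjNormal g) (ι' := Y.subtype.comp (MulAut.conjNormal g).toMonoidHom)
    (fun _ => rfl) _ θ).1 ?_⟩
  have h8 : H592.Transport.tr (MulAut.conjNormal g) θ = η := Subtype.ext (funext fun n => (h7 n).symm)
  rw [h8]
  exact TID.Red.Ov.congr (ι := Y.subtype) (χ := (χ : Γ → ℂ)) (fun a => Characters.Core.isIrr_isClassFunction χ.2 a g) ((TID.Red.ov_subtype_iff _ _ _).2 h5)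

end Desc

/-- **Descent.** -/
theorem boxR (h : BoxF) : BoxR := by
  intro l r 𝔐 hM Γ _ _ Y _ Z hc h2 hZ Y' _ ι hι hY hz B D hB hD hE
  subst hY
  have : Fact l.Prime := ⟨hM.1⟩
  have := hM.2.1.isPrime
  let e := MonoidHom.ofInjective hι
  have hb := H649.isPBlock_blkMap (e := e) hB
  obtain ⟨B', P, hB', hP, h5, h6⟩ := KM.up_norm hM ι.range hb (H649.isDefectGroup_blkMap hD)
  by_contra hA
  obtain ⟨χ, χ', k1, k2, k3⟩ := h2 B' P hB' hP fun k => hA fun x hx y hy => hι (by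
    have a1 : ∀ a ∈ D, ι a ∈ P := fun a ha => (h5.ge ⟨e a, ⟨a, ha, rfl⟩, rfl⟩).1
    rw [map_mul, map_mul]
    exact congrArg Subtype.val (k.is_comm.comm ⟨_, a1 x hx⟩ ⟨_, a1 y hy⟩))
  obtain ⟨θ₀, h7⟩ := isPBlock_nonempty hb
  obtain ⟨χ₀, h8, h9⟩ := h6 θ₀ h7
  have key : ∀ χ, Gd l r ι.range Z B' χ → ∃ ψ ∈ B, Lab.Ov (Lab.Zs l Y') (ψ : Y' → ℂ) ∧ blockHeight l B (ψ : Y' → ℂ) = 0 ∧
      (charDegree (ψ : Y' → ℂ)).factorization r = (charDegree (χ : Γ → ℂ)).factorization r := fun χ k => by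
    obtain ⟨_, ⟨ψ, a1, rfl⟩, a2⟩ := Desc.under hM hB' hb h8 h7 h9 k.1
    obtain ⟨a3, a4⟩ := k.2.2.2 _ a2
    have a5 := h l 𝔐 hM Γ ι.range hc B' _ hB' hb χ k.1 _ ⟨ψ, a1, rfl⟩ a2 k.2.1 a3
    rw [H649.blockHeight_blkMap] at a5
    rw [H649.charDegree_irrMap] at a4
    refine ⟨ψ, a1, fun z hz' => ?_, a5, a4⟩
    obtain ⟨b1, j, b2⟩ := hz'
    have := Fintype.ofFinite ι.range
    have b3 := H625.PHZ.central_eq ι.range χ.2 (H649.irrMap e ψ).2 ((TID.Red.ov_subtype_iff _ _ _).1 a2) (hZ _ (hz z b1)) ⟨z, rfl⟩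
    rw [k.2.2.1 _ (hz z b1) j (by rw [← map_pow, b2, map_one]),
      mul_right_inj' (Characters.Core.isIrr_apply_one_ne_zero χ.2), H649.irrMap_one] at b3
    exact (H649.irrMap_apply' e ψ z).symm.trans b3.symm
  obtain ⟨ψ, a1, a2, a3, a4⟩ := key χ k1
  obtain ⟨ψ', b1, b2, b3, b4⟩ := key χ' k2
  exact k3 (by rw [← a4, ← b4, hE ψ a1 ψ' b1 a2 b2 a3 b3])

end Cfsg.Agent.BZ.AT
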