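import Cfsg.Agent.BZ.AT.Defs

/-!
# BZ, type A, two degrees of height zero: the labels, `boxL` (helper12)
-/

set_option autoImplicit false
set_option linter.unusedSectionVars false

namespace Cfsg.Agent.BZ.AT

open Cfsg Finset
open Cfsg.Agent.H577.GLB.Std Cfsg.Agent.H614.GLn.RSt
open Cfsg.Agent.H614 (SameCol)
open Cfsg.Agent.H794.EM (vz PH)
open Cfsg.Agent.BZ.A (dv df)
open Cfsg.Agent.BZ.A.V2 (hk)

namespace Lb

variable {Q : ℤ} {M : ℕ} [NeZero M] {l n : ℕ}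

theorem same_t (t : LabZ Q M n n) {c c' : ZMod M} (h : SameZ Q M c c') : t.t c' = t.t c := by
  obtain ⟨j, rfl⟩ := h
  induction j with
  | zero => rw [pow_zero, one_mul]
  | succ j ih => rw [pow_succ', mul_assoc, t.orb, ih]

theorem abs_le (h : 2 ≤ |Q|) {k : ℕ} (hk : 0 < k) : 2 ≤ |Q ^ k| := by
  rw [abs_pow]
  exact h.trans (le_self_pow₀ (by omega) hk.ne')

theorem e_pos (hl : l.Prime) (ho : ¬ (l : ℤ) ∣ Q) (c : ZMod M) : 0 < eD Q M l c := by
  have := Fact.mk hl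
  have h1 : (Q : ZMod l) ^ perZ Q M c ≠ 0 := pow_ne_zero _ (mt (ZMod.intCast_zmod_eq_zero_iff_dvd _ _).1 ho)
  exact (isOfFinOrder_iff_pow_eq_one.2 ⟨l - 1, by have := hl.one_lt; omega, ZMod.pow_card_sub_one_eq_one h1⟩).orderOf_pos

/-- good tuples -/
structure Ok (Q : ℤ) (l : ℕ) (t : ZMod M → Fin n → ℕ) (c : ZMod M) (γ : Fin n → ℕ) : Prop where
  mono : StrictMono γ
  col : SameCol (eD Q M l c) γ (t c)
  sz : bsz γ = bsz (t c)
  hk : ∀ F : ℕ → ℕ, (∀ h, ¬ eD Q M l c ∣ h → F h = 0) →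
    hk F γ = ∑ x ∈ range (ewt (eD Q M l c) (t c)), F (eD Q M l c * (x + 1))

theorem exists_lab (hl : l.Prime) (ho : ¬ (l : ℤ) ∣ Q) (h2 : 2 ≤ |Q|) (hQ : IsUnit (Q : ZMod M)) (t : LabZ Q M n n)
    (ht : POnly M l t.t) (τ : ZMod M → Fin n → ℕ) (h : ∀ c, Ok Q l t.t c (τ c)) :
    ∃ T : LabZ Q M n n, POnly M l T.t ∧ SameFam Q M l T.t t.t ∧ df Q M l T.t = top Q M l t.t ∧
      AR Q M T.t = AR Q M τ := by
  have h1 : ∀ c, bsz (τ (canon Q M c)) = bsz (t.t c) := fun c => (h _).sz.trans (congrArg bsz (same_t t (sameZ_canon c)))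
  refine ⟨⟨fun c => τ (canon Q M c), fun c => (h _).mono, fun c => congrArg τ
    (canon_eq_of_same hQ ⟨1, by rw [pow_one]⟩).symm, (sum_congr rfl fun c _ => h1 c).trans t.sum⟩,
    fun c hc => (h1 c).trans (ht c hc), fun δ _ => ⟨sum_congr rfl fun c _ => h1 c, ?_⟩, sum_congr rfl fun c hc => ?_,
    sum_congr rfl fun c hc => congrArg (fun x => perZ Q M c * ar (τ x)) (mem_repsZ.1 hc)⟩
  · have h3 := (h (canon Q M δ)).col
    rwa [← eD_of_same hQ (sameZ_canon δ), same_t t (sameZ_canon δ)] at h3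
  · have hp := perZ_pos hQ c
    show dv l (Q ^ perZ Q M c) (τ (canon Q M c)) = _
    rw [mem_repsZ.1 hc, dv_eq hl (fun k => ho ((Nat.prime_iff_prime_int.1 hl).dvd_of_dvd_pow k)) (abs_le h2 hp) (h c).mono,
      (h c).hk (fun k => vz l ((Q ^ perZ Q M c) ^ k - 1))
        fun k hk => Nat.factorization_eq_zero_of_not_dvd fun e => hk (orderOf_dvd_of_pow_eq_one ?_),
      cp, vz_PH (abs_le h2 (Nat.mul_pos (e_pos hl ho c) hp))]
    · refine sum_congr rfl fun x _ => ?_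
      rw [← pow_mul, ← pow_mul, ← mul_assoc, mul_comm (perZ Q M c)]
    · have h3 := (ZMod.intCast_zmod_eq_zero_iff_dvd _ l).2 (Int.natCast_dvd.2 e)
      push_cast at h3
      exact sub_eq_zero.1 h3

end Lb

open Lb in
/-- **The labels.** -/
theorem boxL (h : BoxO2) : BoxL := by
  intro Q M _ l n hl ho h2 hQ t ht hlt
  classical
  have h1 : ∀ c, bsz (t.t c) ≤ n := fun c =>
    (single_le_sum (f := fun c => bsz (t.t c)) (fun _ _ => Nat.zero_le _) (mem_univ c)).trans_eq t.sum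
  choose γ γ' a1 a2 a3 a4 a5 a6 a7 a8 using fun c => h _ (e_pos hl ho c) n (t.t c) (t.mono c) (h1 c)
  obtain ⟨δ, hδ, h3⟩ : ∃ δ ∈ repsZ Q M, 2 ≤ ewt (eD Q M l δ) (t.t δ) := by
    by_contra h3
    refine hlt.ne (sum_congr rfl fun c hc => ?_)
    rw [cp, vz_PH (abs_le h2 (Nat.mul_pos (e_pos hl ho c) (perZ_pos hQ c)))]
    have h4 : ewt (eD Q M l c) (t.t c) < 2 := not_le.1 fun k => h3 ⟨c, hc, k⟩
    generalize ewt (eD Q M l c) (t.t c) = w at h4
    interval_cases w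
    · simp
    · simp
  have b1 : ∀ c, Ok Q l t.t c (γ c) := fun c => ⟨a1 c, a3 c, a5 c, fun F hF => (a8 c F hF).1⟩
  obtain ⟨T, c1, c2, c3, c4⟩ := exists_lab hl ho h2 hQ t ht γ b1
  obtain ⟨T', d1, d2, d3, d4⟩ := exists_lab hl ho h2 hQ t ht (Function.update γ δ (γ' δ)) fun c => by
    by_cases e : c = δ
    · subst e
      rw [Function.update_self]
      exact ⟨a2 c, a4 c, a6 c, fun F hF => (a8 c F hF).2⟩
    · rw [Function.update_of_ne e]
      exact b1 c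
  refine ⟨T, T', c1, d1, c2, d2, c3, d3, fun e => a7 δ h3 ?_⟩
  rw [c4, d4, AR, AR, ← add_sum_erase _ _ hδ, ← add_sum_erase _ _ hδ, Function.update_self,
    sum_congr (s₁ := (repsZ Q M).erase δ) (f := fun c => perZ Q M c * ar (Function.update γ δ (γ' δ) c)) rfl
      fun c hc => by rw [Function.update_of_ne (ne_of_mem_erase hc)], add_left_inj] at e
  exact Nat.eq_of_mul_eq_mul_left (perZ_pos hQ δ) e

end Cfsg.Agent.BZ.AT
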