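import Cfsg.Agent.BZ.AT.Defs
import Cfsg.Agent.BZ.A.Rows2
import Cfsg.Agent.BZ.Alt.MainT
import Cfsg.Agent.BZ.D3.Main

/-!
# BZ, type A, two degrees of height zero: the covering groups and the rows (helper54)

`boxB`, `row_psl`, `row_psu`.
-/

set_option autoImplicit false
set_option linter.unusedSectionVars false
set_option maxHeartbeats 400000

namespace Cfsg.Agent.BZ.AT

open Cfsg Cfsg.Agent.KM Matrix
open Cfsg.Agent.H577.GLB.Std Cfsg.Agent.H623.GU Cfsg.Agent.H615.GU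
open Cfsg.Agent.RC.A (Amb boxA dK_eq_one scl_of_eq)
open Cfsg.Agent.BZ.Cl (row_small small3)

namespace Rw

theorem cyc {Γ C : Type} [Group Γ] [CommGroup C] [IsCyclic C] (d : Γ →* C) : IsCyclic (Γ ⧸ d.ker) :=
  (QuotientGroup.quotientKerEquivRange d).isCyclic.2 inferInstance

variable {l : ℕ} [hl : Fact l.Prime] {Y : Type} [Group Y] [Finite Y]

/-- the row from the universal cover -/
theorem row_uc (h : ∀ 𝔐, IsPModular l 𝔐 → RT.BTr l 𝔐 Y (Lab.Zs l Y)) (hY : commutator Y = ⊤) {C : Type} [CommGroup C]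
    [Finite C] (hA : HasSchurMultiplier (Y ⧸ Subgroup.center Y) C) (hd : Nat.card (Subgroup.center Y) = Nat.card C) :
    RowT l (Y ⧸ Subgroup.center Y) := fun K _ _ σ 𝔐 B D H => by
  have hπ := QuotientGroup.mk'_surjective (Subgroup.center Y)
  obtain ⟨ψ, h5, h6⟩ := H95.StemCover.exists_cover' (by
      rw [commutator_def, ← MonoidHom.range_eq_top.2 hπ, MonoidHom.range_eq_map, ← Subgroup.map_commutator,
        ← commutator_def, hY]) hA (QuotientGroup.mk' _)
    (H95.StemCover.isStem hY hπ (QuotientGroup.ker_mk' _).le) (by rw [QuotientGroup.ker_mk', hd])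
    H.qs.1.commutator_eq_top σ H.surj H.ker.le
  refine Cl.Hyp.not_of_bx (X := XT) H (RT.bt_dom H.hM ψ h5 (fun y hy => ?_) (h 𝔐 H.hM))
  rw [← QuotientGroup.ker_mk' (Subgroup.center Y), MonoidHom.mem_ker, ← h6, MonoidHom.mem_ker.1 hy, map_one]

/-- the simple group itself -/
theorem one (h : ∀ 𝔐, IsPModular l 𝔐 → RT.BTr l 𝔐 Y (Lab.Zs l Y)) : Cov XT 1 l (Y ⧸ Subgroup.center Y) :=
  Cl.cov_one Cl.lfT fun 𝔐 hM => RT.bt_dom hM (QuotientGroup.mk' _) (QuotientGroup.mk'_surjective _)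
    (QuotientGroup.ker_mk' _).le (h 𝔐 hM)

/-- two covers -/
theorem two {S : Type} [Group S] {A : Type} [CommGroup A] (hA : HasSchurMultiplier S A) {m r : ℕ} (hm : ∀ a : A, a ^ m = 1)
    (hr : ∀ n, n ∣ m → ¬ l ∣ n → n = 1 ∨ n = r) (h1 : Cov XT 1 l S) (h2 : Cov XT r l S) : RowT l S :=
  fun K _ _ σ M B D H => by
  obtain ⟨f, hf⟩ := H95.StemCover.exists_surj_ker hA H.qs.1.commutator_eq_top σ H.surj H.ker.le
  have hc : IsCyclic σ.ker := H.ker ▸ H.cyc
  have h3 : Nat.card (Subgroup.center K) ∣ m := by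
    rw [← H.ker, ← IsCyclic.exponent_eq_card]
    exact (MonoidHom.exponent_dvd hf).trans (Monoid.exponent_dvd_of_forall_pow_eq_one hm)
  rcases hr _ h3 H.zp with e | e
  exacts [h1 K σ M B D H e, h2 K σ M B D H e]

theorem dv6 : ∀ n, n ∣ 6 → ¬ 3 ∣ n → n = 1 ∨ n = 2 := fun n h h' => by
  have := Nat.le_of_dvd (by norm_num) h
  interval_cases n <;> omega

theorem dv12 : ∀ n, n ∣ 12 → ¬ 2 ∣ n → n = 1 ∨ n = 3 := fun n h h' => by
  have := Nat.le_of_dvd (by norm_num) h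
  interval_cases n <;> omega

end Rw

open Rw

/-- **[B]** -/
theorem boxB (hU : BoxU) (hC : BoxC) (hR : BoxR) : BoxB := by
  intro l 𝔐 hM F _ _ hF n
  have hl : Fact l.Prime := ⟨hM.1⟩
  have h1 := BHZ.Nil.not_dvd_card hF
  obtain ⟨r, hr, hrq⟩ := Nat.exists_prime_and_dvd (Fintype.one_lt_card (α := F)).ne'
  obtain ⟨K, _, _, θ, M, _, C⟩ := H120.GLB.Ctx.exists_ctx F (n + 1)
  refine ⟨?_, fun q hq hn => ?_⟩
  · have ctx : CtxQ θ (Fintype.card F : ℤ) M (n + 1) := by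
      have := H614.GU.ctxQ_card C
      rwa [Nat.card_eq_fintype_card] at this
    have hQ : ¬ (l : ℤ) ∣ (Fintype.card F : ℤ) := fun e => h1 (Int.natCast_dvd_natCast.1 e)
    obtain ⟨A, h3, -⟩ := (boxA F K θ _ M _ l hl.out hF C ctx).1 rfl
    have := A.ctx.finK
    refine hR l r 𝔐 hM _ (A.d (n + 1)).ker (A.Z (n + 1)) (cyc _) (hU F K θ _ M _ l r _ A 𝔐 hM hQ hr
      (Int.natCast_dvd_natCast.2 hrq) (fun δ h5 => (hC F K θ _ M _ l hl.out hQ δ h5).1 rfl A h3) _ n.succ_pos le_rfl)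
      (BZ.A.cen_Z A _) _ SpecialLinearGroup.toGL SpecialLinearGroup.toGL_injective ?_ fun y hy => ?_
    · rw [KM.A.range_SL]
      ext g
      rw [MonoidHom.mem_ker, MonoidHom.mem_ker, Amb.d, h3]
      exact dK_eq_one.symm
    · obtain ⟨_, _, h⟩ := Matrix.SpecialLinearGroup.mem_center_iff.1 hy
      rw [Amb.Z, h3]
      exact scl_of_eq h.symm
  · have ctx : CtxQ θ (-(q : ℤ)) M (n + 1) := H614.GU.ctxQ_of_ctx C (by rw [Nat.card_eq_fintype_card]; exact hq)
    have hQ : ¬ (l : ℤ) ∣ -(q : ℤ) := fun e =>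
      h1 (hq ▸ (Int.natCast_dvd_natCast.1 (Int.dvd_neg.1 e)).trans (dvd_pow_self q two_ne_zero))
    obtain ⟨A, h3, -⟩ := (boxA F K θ _ M _ l hl.out hF C ctx).2 q hq rfl
    have := A.ctx.finK
    refine hR l r 𝔐 hM _ (A.d (n + 1)).ker (A.Z (n + 1)) (cyc _) (hU F K θ _ M _ l r _ A 𝔐 hM hQ hr
      (Int.dvd_neg.2 (Int.natCast_dvd_natCast.2 (hr.dvd_of_dvd_pow (hq ▸ hrq))))
      (fun δ h5 => (hC F K θ _ M _ l hl.out hQ δ h5).2 q hq rfl A h3) _ n.succ_pos le_rfl) (BZ.A.cen_Z A _) _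
      ((SpecialLinearGroup.toGL.comp (SU (n + 1) F q).subtype).codRestrict (GU (n + 1) F q) fun x => x.2)
      (fun x y e => Subtype.ext (SpecialLinearGroup.toGL_injective (congrArg Subtype.val e))) ?_ fun y hy => ?_
    · ext g
      rw [MonoidHom.mem_ker, Amb.d, h3]
      exact ⟨fun ⟨y, hy⟩ => dK_eq_one.2 (hy ▸ Units.ext y.1.2),
        fun h => ⟨⟨⟨g.1, congrArg Units.val (dK_eq_one.1 h)⟩, g.2⟩, Subtype.ext (Units.ext rfl)⟩⟩
    · obtain ⟨c, h5, h6, rfl⟩ := (LieClassical.SUBasic.mem_center_SU_iff hq hn y).1 hy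
      rw [Amb.Z, h3]
      exact scl_of_eq (c := c) rfl

/-- **the row of the linear groups** -/
theorem row_psl (hB : BoxB) : For RowT CPsl := by
  rintro l hl S _ _ _ hS ⟨F, _, _, n, hF, hn, h4, ⟨e⟩⟩
  by_cases hexc : (n, Fintype.card F) ∈ ({(2, 4), (2, 9), (3, 2), (3, 4), (4, 2)} : Set (ℕ × ℕ))
  · simp only [Set.mem_insert_iff, Set.mem_singleton_iff, Prod.mk.injEq] at hexc
    by_cases h2 : l = 2
    · subst h2
      have h1 := BHZ.Nil.not_dvd_card hF
      obtain ⟨rfl, h⟩ : n = 2 ∧ Fintype.card F = 9 := by omega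
      obtain ⟨e'⟩ := S0254.result h
      exact Alt.altT 2 S hS ⟨6, by norm_num, ⟨e.trans e'⟩⟩
    have h1 := S0243.result (F := F) rfl n hn
    refine RowT.of_equiv e (row_small (X := XT) ?_)
    rcases hexc with ⟨rfl, h⟩ | ⟨rfl, h⟩ | ⟨rfl, h⟩ | ⟨rfl, h⟩ | ⟨rfl, h⟩ <;> rw [h] at h1 <;>
      norm_num [Fin.prod_univ_succ] at h1
    · exact small3 h2 2 1 5 (by omega) (by norm_num) (by norm_num)
    · exact small3 h2 3 2 5 (by omega) (by norm_num) (by norm_num)
    · exact small3 h2 3 1 7 (by omega) (by norm_num) (by norm_num)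
    · exact small3 h2 6 2 35 (by omega) (by norm_num) (by norm_num)
    · exact small3 h2 6 2 35 (by omega) (by norm_num) (by norm_num)
  refine RowT.of_equiv e ?_
  obtain ⟨n, rfl⟩ : ∃ m, n = m + 1 := ⟨n - 1, by omega⟩
  have : NeZero (Nat.gcd (n + 1) (Fintype.card F - 1)) := ⟨Nat.gcd_ne_zero_left n.succ_ne_zero⟩
  refine row_uc (fun 𝔐 hM => (hB l 𝔐 hM F hF n).1) ?_ (S2086.result rfl _ hn h4 hexc)
    (by rw [S0280.card_center_SL n.succ_pos, BHZ.Nil.card_mult_zmod])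
  rcases hn.eq_or_lt with h | h
  · obtain rfl : n = 1 := by omega
    exact H259.NatMod.commutator_eq_top (h4 rfl)
  · exact S0248.result _ h

/-- **the row of the unitary groups** -/
theorem row_psu (hB : BoxB) (h62 : ∀ (F : Type) [Field F] [Fintype F], Fintype.card F = 4 → Cov XT 2 3 (PSU 6 F 2))
    (h43 : ∀ (F : Type) [Field F] [Fintype F], Fintype.card F = 9 → Cov XT 3 2 (PSU 4 F 3)) : For RowT CPsu := by
  rintro l hl S _ _ _ hS ⟨F, _, _, n, q, hF, hq, hn, h4, ⟨e⟩⟩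
  obtain ⟨n, rfl⟩ : ∃ m, n = m + 1 := ⟨n - 1, by omega⟩
  have h7 : ∀ 𝔐, IsPModular l 𝔐 → RT.BTr l 𝔐 (SU (n + 1) F q) (Lab.Zs l _) := fun 𝔐 hM => (hB l 𝔐 hM F hF n).2 q hq hn
  by_cases hexc : (n + 1, q) ∈ ({(4, 2), (4, 3), (6, 2)} : Set (ℕ × ℕ))
  · simp only [Set.mem_insert_iff, Set.mem_singleton_iff, Prod.mk.injEq] at hexc
    have h1 := BHZ.Nil.not_dvd_card hF
    have h0 := S0280.result hq (n + 1) (by omega)
    have h5 := Nat.card_congr e.toEquiv
    rw [hq] at h1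
    rcases hexc with ⟨h, rfl⟩ | ⟨h, rfl⟩ | ⟨h, rfl⟩
    · obtain rfl : n = 3 := by omega
      norm_num [Finset.prod_range_succ, Nat.even_iff] at h0
      replace h5 : Nat.card S = Nat.card (PSU 4 F 2) := h5
      by_cases h3 : l = 3
      · subst h3
        obtain ⟨e'⟩ := S0822.result (F := F) (K := ZMod 3) hq (by simp)
        exact D3.lieT 3 S hS (Or.inr (Or.inl ⟨ZMod 3, inferInstance, inferInstance, inferInstance, 2, le_rfl,
          fun _ => by simp, ⟨e.trans e'⟩⟩))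
      · exact row_small (X := XT) (small3 (fun h => h1 (by norm_num [h])) 6 4 5 (by omega) (by norm_num)
          fun h => absurd h h3)
    · obtain rfl : n = 3 := by omega
      norm_num [Finset.prod_range_succ, Nat.even_iff] at h0
      replace h5 : Nat.card S = Nat.card (PSU 4 F 3) := h5
      by_cases h2 : l = 2
      · subst h2
        exact RowT.of_equiv e (two (S2090.result hq) A.Rw2.pow_twelve dv12 (one h7) (h43 F hq))
      · exact row_small (X := XT) (small3 h2 7 6 35 (by omega) (by norm_num) fun h => absurd (by norm_num [h]) h1)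
    · obtain rfl : n = 5 := by omega
      norm_num [Finset.prod_range_succ, Nat.even_iff] at h0
      replace h5 : Nat.card S = Nat.card (PSU 6 F 2) := h5
      by_cases h3 : l = 3
      · subst h3
        exact RowT.of_equiv e (two (S2091.result hq) A.pow_six dv6 (one h7) (h62 F hq))
      · exact row_small (X := XT) (small3 (fun h => h1 (by norm_num [h])) 15 6 385 (by omega) (by norm_num)
          fun h => absurd h h3)
  have : NeZero (Nat.gcd (n + 1) (q + 1)) := ⟨Nat.gcd_ne_zero_left n.succ_ne_zero⟩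
  exact RowT.of_equiv e (row_uc h7 (LieClassical.HermPerfect.commutator_SU_eq_top hq hn h4) (S2089.result _ q hq hn h4 hexc)
    (by rw [S0279.result hq _ hn, BHZ.Nil.card_mult_zmod]))

end Cfsg.Agent.BZ.AT
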