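import Cfsg.Agent.BZ.AT.Defs
import Cfsg.Agent.BZ.A.Up2
import Cfsg.Agent.RC.A.Red

/-!
# BZ, type A: the upper bound for the defects in a family (helper94)

* `Up.PH_mul_dvd`, `Up.PH_pow_dvd` : divisibility of the products `∏ (U ^ i - 1)`;
* `boxH : BoxO1 → BoxH`.
-/

set_option autoImplicit false

namespace Cfsg.Agent.BZ.AT

open Cfsg Finset
open Cfsg.Agent.H577.GLB.Std Cfsg.Agent.H614.GLn.RSt
open Cfsg.Agent.H614 (SameCol)
open Cfsg.Agent.H794.EM (vz PH vz_mul PH_ne pow_ne_one)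
open Cfsg.Agent.LV.A
open Cfsg.Agent.BZ.A (dv df)
open Cfsg.Agent.H505.S4536.DC (pu pReg_iff kq kq_mul kq_pos eD_dvd_kq)

namespace Up

theorem PH_zero (U : ℤ) : PH U 0 = 1 := by rw [PH, prod_range_zero]

theorem PH_succ (U : ℤ) (n : ℕ) : PH U (n + 1) = PH U n * (U ^ (n + 1) - 1) := by rw [PH, PH, prod_range_succ]

/-- the Gauss binomial coefficients are integers -/
theorem PH_mul_dvd (U : ℤ) : ∀ n a b : ℕ, a + b = n → PH U a * PH U b ∣ PH U (a + b) := by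
  intro n
  induction n with
  | zero =>
    intro a b h
    obtain rfl : a = 0 := by omega
    obtain rfl : b = 0 := by omega
    rw [PH_zero, one_mul]
  | succ n ih =>
    intro a b h
    rcases a with _ | a
    · rw [PH_zero, one_mul, zero_add]
    rcases b with _ | b
    · rw [PH_zero, mul_one, add_zero]
    have h1 := ih (a + 1) b (by omega)
    have h2 := ih a (b + 1) (by omega)
    have e1 : PH U (a + 1 + (b + 1)) =
        PH U (a + 1 + b) * (U ^ (b + 1) - 1) * U ^ (a + 1) + PH U (a + (b + 1)) * (U ^ (a + 1) - 1) := by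
      rw [show a + 1 + (b + 1) = a + 1 + b + 1 by omega, PH_succ, show a + (b + 1) = a + 1 + b by omega]
      ring
    rw [e1]
    refine dvd_add (Dvd.dvd.mul_right ?_ _) ?_
    · rw [PH_succ U b, ← mul_assoc]
      exact mul_dvd_mul_right h1 _
    · rw [PH_succ U a, mul_right_comm]
      exact mul_dvd_mul_right h2 _

theorem PH_pow_dvd (U : ℤ) {κ : ℕ} (hκ : 0 < κ) (s : ℕ) : PH (U ^ κ) s ∣ PH U (κ * s) := by
  obtain ⟨k, rfl⟩ : ∃ k, κ = k + 1 := ⟨κ - 1, by omega⟩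
  induction s with
  | zero => rw [PH_zero]; exact one_dvd _
  | succ s ih =>
    rw [PH_succ, show (k + 1) * (s + 1) = (k + 1) * s + k + 1 by ring, PH_succ, ← pow_mul,
      show (k + 1) * (s + 1) = (k + 1) * s + k + 1 by ring]
    refine mul_dvd_mul_right (ih.trans ?_) _
    exact prod_dvd_prod_of_subset _ _ _ (range_subset_range.2 (Nat.le_add_right _ _))

theorem vz_le {l : ℕ} {a b : ℤ} (h : a ∣ b) (hb : b ≠ 0) : vz l a ≤ vz l b := by
  obtain ⟨c, rfl⟩ := h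
  rw [vz_mul (left_ne_zero_of_mul hb) (right_ne_zero_of_mul hb)]
  exact Nat.le_add_right _ _

theorem vz_zero (l : ℕ) (U : ℤ) : vz l (PH U 0) = 0 := by
  rw [PH_zero, vz, Int.natAbs_one, Nat.factorization_one]
  rfl

theorem vz_add {l : ℕ} {U : ℤ} (hU : 2 ≤ |U|) (a b : ℕ) : vz l (PH U a) + vz l (PH U b) ≤ vz l (PH U (a + b)) := by
  rw [← vz_mul (PH_ne hU a) (PH_ne hU b)]
  exact vz_le (PH_mul_dvd U _ a b rfl) (PH_ne hU _)

theorem vz_sum {l : ℕ} {U : ℤ} (hU : 2 ≤ |U|) {ι : Type} (S : Finset ι) (f : ι → ℕ) :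
    ∑ i ∈ S, vz l (PH U (f i)) ≤ vz l (PH U (∑ i ∈ S, f i)) := by
  classical
  induction S using Finset.induction_on with
  | empty => rw [sum_empty]; exact Nat.zero_le _
  | insert i S hi ih =>
    rw [sum_insert hi, sum_insert hi]
    exact (Nat.add_le_add_left ih _).trans (vz_add hU _ _)

theorem not_dvd_pow {l : ℕ} (hl : l.Prime) {Q : ℤ} (h : ¬ (l : ℤ) ∣ Q) (k : ℕ) : ¬ (l : ℤ) ∣ Q ^ k :=
  fun h1 => h ((Nat.prime_iff_prime_int.1 hl).dvd_of_dvd_pow h1)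

theorem unit_of {l : ℕ} (hl : l.Prime) {Q : ℤ} (h : ¬ (l : ℤ) ∣ Q) : IsUnit (Q : ZMod l) := by
  have := Fact.mk hl
  exact Ne.isUnit fun h0 => h ((ZMod.intCast_zmod_eq_zero_iff_dvd Q l).1 h0)

/-- one orbit, in terms of the label -/
theorem term (h : BoxO1) {Q : ℤ} {M : ℕ} [NeZero M] {l : ℕ} (hl : l.Prime) (ho : ¬ (l : ℤ) ∣ Q) (h2 : 2 ≤ |Q|)
    (hQ : IsUnit (Q : ZMod M)) (c : ZMod M) {m : ℕ} {β : Fin m → ℕ} (hβ : StrictMono β) :
    dv l (Q ^ perZ Q M c) β ≤ vz l (PH (Q ^ cp Q M l c) (ewt (eD Q M l c) β)) := by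
  have h1 := h l (Q ^ perZ Q M c) hl (not_dvd_pow hl ho _) (A.H2.two_le h2 (perZ_pos hQ c)) m β hβ
  have e : orderOf ((Q ^ perZ Q M c : ℤ) : ZMod l) = eD Q M l c := by rw [Int.cast_pow]; rfl
  rwa [e, ← pow_mul, mul_comm] at h1

end Up

/-- **The upper bound.** -/
theorem boxH (h : BoxO1) : BoxH := by
  intro Q M _ l n hl ho h2 hQ t T ht hT
  classical
  have hQl := Up.unit_of hl ho
  have hF : A.Fam M l T.t t.t := fun δ hδ => (hT δ hδ).1.trans (H157.GLB.sfun_of_pOnly hl ht hδ)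
  unfold df top
  rw [← sum_fiberwise_of_maps_to (g := fun c => canon Q M (pu M l * c)) (t := repsZ Q M) fun c _ => canon_mem_repsZ hQ _]
  refine sum_le_sum fun δ hδ => ?_
  have h1 := A.H2.fib hl hQ t T ht hF hδ
  have hmem : ∀ c, c ∈ (repsZ Q M).filter (fun c => canon Q M (pu M l * c) = δ) ↔
      c ∈ repsZ Q M ∧ canon Q M (pu M l * c) = δ := fun c => mem_filter
  generalize (repsZ Q M).filter (fun c => canon Q M (pu M l * c) = δ) = S at h1 hmem
  by_cases hr : PReg M l δ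
  swap
  · rw [ht δ hr] at h1
    refine (sum_eq_zero fun c hc => ?_).le.trans (Nat.zero_le _)
    have h3 : bsz (T.t c) = 0 :=
      (Nat.mul_eq_zero.1 (sum_eq_zero_iff.1 h1 c hc)).resolve_left (kq_pos hQ c).ne'
    have h4 := ewt_mul_le (H157.GLB.eD_pos (M := M) hl hQl c) (T.mono c)
    have h5 : ewt (eD Q M l c) (T.t c) = 0 := by
      rw [h3] at h4
      exact (Nat.mul_eq_zero.1 (Nat.le_zero.1 h4)).resolve_left (H157.GLB.eD_pos hl hQl c).ne'
    have h6 := Up.term h hl ho h2 hQ c (T.mono c)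
    rw [h5, Up.vz_zero] at h6
    exact Nat.le_zero.1 h6
  have he := H157.GLB.eD_pos (M := M) hl hQl δ
  have hpu := (pReg_iff hl δ).1 hr
  have hδS : δ ∈ S := (hmem δ).2 ⟨hδ, by rw [hpu]; exact mem_repsZ.1 hδ⟩
  have hk1 : kq Q M l δ = 1 := by
    have h3 := kq_mul (Q := Q) (p := l) δ
    rw [hpu] at h3
    exact Nat.eq_of_mul_eq_mul_right (perZ_pos hQ δ) (h3.trans (one_mul _).symm)
  have hU : 2 ≤ |Q ^ cp Q M l δ| := A.H2.two_le h2 (Nat.mul_pos he (perZ_pos hQ δ))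
  have h4 : ∀ c ∈ S.erase δ, eD Q M l δ * (kq Q M l c / eD Q M l δ) = kq Q M l c ∧ dv l (Q ^ perZ Q M c) (T.t c) ≤
      vz l (PH (Q ^ cp Q M l δ) (kq Q M l c / eD Q M l δ * bsz (T.t c))) := fun c hc => by
    obtain ⟨hne, hc⟩ := mem_erase.1 hc
    obtain ⟨hc1, e1⟩ := (hmem c).1 hc
    have hn : ¬ PReg M l c := fun hc2 => hne (by
      rw [(pReg_iff hl c).1 hc2, mem_repsZ.1 hc1] at e1
      exact e1)
    have e2 : perZ Q M c = perZ Q M δ * kq Q M l c := by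
      rw [← e1, ← perZ_of_same hQ (sameZ_canon (pu M l * c)), mul_comm, kq_mul]
    have e3 : eD Q M l δ ∣ kq Q M l c := by
      rw [← e1, H505.S4536.DC.eD_same hQ (sameZ_canon (pu M l * c))]
      exact eD_dvd_kq hl hn
    have e4 := Nat.mul_div_cancel' e3
    have hκ : 0 < kq Q M l c / eD Q M l δ := Nat.div_pos (Nat.le_of_dvd (kq_pos hQ c) e3) he
    have e5 : eD Q M l c = 1 := by
      rw [eD, e2, pow_mul, orderOf_eq_one_iff]
      exact orderOf_dvd_iff_pow_eq_one.1 e3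
    refine ⟨e4, (Up.term h hl ho h2 hQ c (T.mono c)).trans ?_⟩
    have e6 : Q ^ cp Q M l c = (Q ^ cp Q M l δ) ^ (kq Q M l c / eD Q M l δ) := by
      rw [← pow_mul, cp, cp, e5, one_mul, e2, mul_comm (eD Q M l δ), mul_assoc, e4]
    rw [e5, RC.A.ewt_one (T.mono c), e6]
    exact Up.vz_le (Up.PH_pow_dvd _ hκ _) (PH_ne hU _)
  have h5 : bsz (T.t δ) + eD Q M l δ * ∑ c ∈ S.erase δ, kq Q M l c / eD Q M l δ * bsz (T.t c) = bsz (t.t δ) := by
    rw [← h1, ← add_sum_erase S _ hδS, hk1, one_mul, mul_sum]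
    exact congrArg _ (sum_congr rfl fun c hc => by rw [← mul_assoc, (h4 c hc).1])
  rw [← ewt_col he (T.mono δ) (t.mono δ) (hT δ hr).2 h5, ← add_sum_erase S _ hδS]
  refine le_trans (Nat.add_le_add (Up.term h hl ho h2 hQ δ (T.mono δ)) ?_) (Up.vz_add hU _ _)
  exact (sum_le_sum fun c hc => (h4 c hc).2).trans (Up.vz_sum hU _ _)

end Cfsg.Agent.BZ.AT
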